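import Cfsg.Agent.H71.Spr.NineFin
import Cfsg.Agent.S5836

/-!
# S3938, row `Ω_9(q)`, `q` odd (helper71)
-/

set_option autoImplicit false

namespace Cfsg.Agent.H71.Spr

open Cfsg

/-- **S3938-OODD9** -/
theorem spr_o9 {F : Type} [Field F] [Fintype F] (hodd : Odd (Fintype.card F)) :
    Cfsg.Agent.H424.Spr.Spr (POmega F (quadFormOdd 4 F)) :=
  spr_o9_of_res hodd fun H hH hS => Cfsg.Agent.S5836.result hodd H hH hS

end Cfsg.Agent.H71.Spr
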