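import Cfsg.Agent.H781.Cov9.Main
import Cfsg.Agent.H424.Spr.Two
import Cfsg.Agent.H437.Dio
import Cfsg.Agent.H876.Stab
import Mathlib

/-!
# S3938, row `Ω_9(q)`, `q` odd (helper71)

* `exists_ppp8` : a primitive prime divisor `r ≠ 17` of `p ^ (8 a) - 1`, `p` odd;
* `spr_of_one_center` : the criterion U1 in a central extension;
* `spr_nine` : `Spr` for the quotient of `omegaGL Q`, from the list of the maximal subgroups (`GeoCases`): every proper
  subgroup over an element of order `r` is in the stabiliser of its eight-dimensional commutator space.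
-/

set_option autoImplicit false
set_option linter.unusedSectionVars false

namespace Cfsg.Agent.H71.Spr

open Module QuadraticMap Cfsg Cfsg.Geo Cfsg.Agent.LieClassical.OrthCore Cfsg.Agent.H955 Cfsg.Agent.H954.TSing
open Cfsg.Agent.H884.El Cfsg.Agent.H278.Cov Cfsg.Agent.H781.Cov9
open Cfsg.Agent.H951 (fx cm Inv)
open scoped MatrixGroups Matrix

/-! ### Numbers -/

theorem pow_four_mod {q : ℕ} (h : q % 2 = 1) : q ^ 4 % 16 = 1 := by
  have h1 : q % 16 = 1 ∨ q % 16 = 3 ∨ q % 16 = 5 ∨ q % 16 = 7 ∨ q % 16 = 9 ∨ q % 16 = 11 ∨ q % 16 = 13 ∨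
    q % 16 = 15 := by omega
  rw [Nat.pow_mod]
  rcases h1 with h | h | h | h | h | h | h | h <;> rw [h]

/-- `q ^ 4 + 1` is not `2 * 17 ^ k` -/
theorem ne_pow_17 {p a k : ℕ} (hp : p.Prime) (hp2 : p ≠ 2) (ha : a = 1 ∨ a = 2) : (p ^ a) ^ 4 + 1 ≠ 2 * 17 ^ k := by
  intro h
  have hpa : 3 ≤ p ^ a := by
    have h3 : 3 ≤ p := by
      have := hp.two_le
      omega
    calc 3 ≤ p := h3
      _ = p ^ 1 := (pow_one p).symm
      _ ≤ p ^ a := Nat.pow_le_pow_right hp.pos (by omega)
  rcases Nat.even_or_odd' k with ⟨j, rfl | rfl⟩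
  · have h1 := Cfsg.Agent.H437.quartic_two (t := p ^ a) (z := 17 ^ j) (by rw [h, mul_comm 2 j, pow_mul])
    omega
  · by_cases h3 : p = 3
    · subst h3
      rcases ha with rfl | rfl
      · rw [pow_succ] at h
        norm_num at h
        omega
      · cases j with
        | zero => norm_num at h
        | succ j =>
          have h4 : 17 ^ (2 * (j + 1) + 1) = 17 ^ (2 * j) * 4913 := by ring
          rw [h4] at h
          norm_num at h
          omega
    · have h4 : ¬ 3 ∣ p ^ a := fun h5 => h3 ((Nat.prime_dvd_prime_iff_eq Nat.prime_three hp).1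
        (Nat.prime_three.dvd_of_dvd_pow h5)).symm
      have h5 : (p ^ a) ^ 4 % 3 = 1 := by
        rw [Nat.pow_mod]
        have h6 : p ^ a % 3 = 1 ∨ p ^ a % 3 = 2 := by omega
        rcases h6 with h6 | h6 <;> rw [h6]
      have h6 : 17 ^ (2 * j + 1) % 3 = 2 := by
        rw [pow_succ, pow_mul, Nat.mul_mod, Nat.pow_mod]
        norm_num
      omega

/-- **a primitive prime divisor `r ≠ 17`** -/
theorem exists_ppp8 {p a : ℕ} (hp : p.Prime) (hp2 : p ≠ 2) (ha : 1 ≤ a) : ∃ r, PP p (a * 8) r ∧ r ≠ 17 := by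
  by_contra hcon
  push Not at hcon
  obtain ⟨r₀, hr₀⟩ := exists_ppp (e := 8) hp ha (by norm_num) (by omega) (fun b hb => by omega)
  have h17 := hcon r₀ hr₀
  subst h17
  have h1 := hr₀.dvd_sub_one (by omega)
  have ha2 : a = 1 ∨ a = 2 := by
    have h2 := Nat.le_of_dvd (by norm_num) h1
    omega
  have hodd : p % 2 = 1 := Nat.odd_iff.1 (hp.odd_of_ne_two hp2)
  have hq2 : p ^ a % 2 = 1 := Nat.odd_iff.1 ((Nat.odd_iff.2 hodd).pow)
  have hq16 := pow_four_mod hq2
  obtain ⟨N, hN⟩ : ∃ N, (p ^ a) ^ 4 + 1 = 2 * N := ⟨((p ^ a) ^ 4 + 1) / 2, by omega⟩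
  have hN2 : N % 2 = 1 := by omega
  have key : ∀ {d : ℕ}, Nat.Prime d → d ∣ N → d = 17 := by
    intro d hd hdN
    apply hcon
    have := Fact.mk hd
    refine ⟨hd, ?_⟩
    have h2 : d ≠ 2 := by
      rintro rfl
      omega
    have h3 : ((p : ZMod d) ^ a) ^ 4 = -1 := by
      have h4 : (((p ^ a) ^ 4 + 1 : ℕ) : ZMod d) = 0 := by
        rw [ZMod.natCast_eq_zero_iff, hN]
        exact hdN.mul_left 2
      push_cast at h4
      exact eq_neg_of_add_eq_zero_left h4
    have h5 : (-1 : ZMod d) ≠ 1 := by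
      have : Fact (2 < d) := ⟨by have := hd.two_le; omega⟩
      exact ZMod.neg_one_ne_one
    rcases ha2 with rfl | rfl
    · rw [pow_one] at h3
      have h6 : orderOf (p : ZMod d) = 2 ^ (2 + 1) := by
        apply orderOf_eq_prime_pow
        · rw [show (2 : ℕ) ^ 2 = 4 from rfl, h3]
          exact h5
        · rw [show (2 : ℕ) ^ (2 + 1) = 4 * 2 from rfl, pow_mul, h3]
          ring
      rw [h6]; norm_num
    · rw [← pow_mul] at h3
      have h6 : orderOf (p : ZMod d) = 2 ^ (3 + 1) := by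
        apply orderOf_eq_prime_pow
        · rw [show (2 : ℕ) ^ 3 = 2 * 4 from rfl, h3]
          exact h5
        · rw [show (2 : ℕ) ^ (3 + 1) = (2 * 4) * 2 from rfl, pow_mul, h3]
          ring
      rw [h6]; norm_num
  have hN0 : N ≠ 0 := by omega
  have h2 := Nat.eq_prime_pow_of_unique_prime_dvd hN0 key
  rw [h2] at hN
  exact ne_pow_17 hp hp2 ha2 hN

/-! ### The criterion -/

/-- **U1 in a central extension** -/
theorem spr_of_one_center {G L : Type*} [Group G] [Group L] [IsSimpleGroup L] [Finite L] (f : G →* L)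
    (hf : Function.Surjective f) (hker : f.ker ≤ Subgroup.center G) {s z : G} {M : Subgroup G}
    (hM : Subgroup.centralizer {s} ≤ M) (hz : z ∉ M) (h : ∀ K : Subgroup G, s ∈ K → K ≠ ⊤ → K ≤ M) :
    H424.Spr.Spr L := by
  have hk : f.ker ≤ M := hker.trans ((Subgroup.center_le_centralizer _).trans hM)
  have hMt : M ≠ ⊤ := by
    rintro rfl
    exact hz trivial
  refine H424.Spr.spr_of_one_up ?_ f hf hk hMt (fun K _ hs hK => h K hs hK)
  by_contra hcon
  push Not at hcon
  have hs1 : f s ≠ 1 := by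
    intro h1
    have h2 : s ∈ Subgroup.center G := hker h1
    apply hz
    apply hM
    rw [Subgroup.mem_centralizer_singleton_iff]
    exact ((Subgroup.mem_center_iff.1 h2 z)).symm.symm
  have hn : (Subgroup.zpowers (f s)).Normal := ⟨fun x hx y => by
    rw [hcon y x, mul_inv_cancel_right]; exact hx⟩
  rcases hn.eq_bot_or_eq_top with h1 | h1
  · exact hs1 (Subgroup.zpowers_eq_bot.1 h1)
  · have h2 : f z ∈ Subgroup.zpowers (f s) := by rw [h1]; trivial
    obtain ⟨k, hk2⟩ := Subgroup.mem_zpowers_iff.1 h2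
    have h3 : z * (s ^ k)⁻¹ ∈ f.ker := by
      rw [MonoidHom.mem_ker, map_mul, map_inv, map_zpow, hk2, mul_inv_cancel]
    have h4 := hM (Subgroup.center_le_centralizer {s} (hker h3))
    apply hz
    have h5 : s ^ k ∈ M := hM (by
      rw [Subgroup.mem_centralizer_singleton_iff]
      exact (Commute.refl s).zpow_left k)
    have h6 : z = z * (s ^ k)⁻¹ * s ^ k := by group
    rw [h6]
    exact mul_mem h4 h5

/-! ### The row -/

universe u

variable {F : Type u} [Field F] [Fintype F] {Q : QuadraticForm F (I9 → F)}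

/-- the centraliser of `x` stabilises the commutator space -/
theorem mem_stab_cm {x z : GL I9 F} (h : z * x = x * z) : z ∈ subspaceStabilizer (cm (lin x)) := by
  apply Cfsg.Agent.H876.mem_stab_of_le
  intro v hv
  rw [← lin_apply]
  obtain ⟨w, rfl⟩ := H951.mem_cm.1 hv
  refine H951.mem_cm.2 ⟨lin z w, ?_⟩
  rw [map_sub, ← lin_mul_apply, ← lin_mul_apply, h]

/-- **the row from the list of the maximal subgroups** -/
theorem spr_nine (hQ : Nondeg Q) (h2 : (2 : F) ≠ 0)
    (hΩ : ∀ (g : GL I9 F) (r : ℕ), g ∈ isometryGroup F (⇑Q) → Odd r → g ^ r = 1 → g ∈ omegaGL (⇑Q))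
    (hGeo : ∀ H : Subgroup (GL I9 F), IsMaximalIn (omegaGL (⇑Q)) H → GeoCases (⇑Q) H)
    {L : Type*} [Group L] [IsSimpleGroup L] [Finite L] (f : ↥(omegaGL (⇑Q)) →* L) (hf : Function.Surjective f)
    (hker : f.ker ≤ Subgroup.center ↥(omegaGL (⇑Q))) : H424.Spr.Spr L := by
  obtain ⟨p, a, hp, ha, hpa⟩ := exists_char F
  have hF : Fintype.card F = p ^ a := by rw [← Nat.card_eq_fintype_card]; exact hpa
  have hpf := Fact.mk hp
  have hch : CharP F p := charP_of_card_eq_prime_pow hF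
  have hp2 : p ≠ 2 := by
    rintro rfl
    apply h2
    have := CharP.cast_eq_zero F 2
    exact_mod_cast this
  obtain ⟨r8, hr8, hr17⟩ := exists_ppp8 hp hp2 ha
  obtain ⟨r4, hr4⟩ := exists_ppp (e := 4) hp ha (by norm_num) (by omega) (fun b hb => by omega)
  have hr8q : PP (Nat.card F) 8 r8 := by rw [hpa]; exact hr8.of_pow ha
  have hr4q : PP (Nat.card F) 4 r4 := by rw [hpa]; exact hr4.of_pow ha
  obtain ⟨x, hx⟩ := exists_a hQ card_nine h2 hr8q
  obtain ⟨z, hz⟩ := exists_c hQ card_nine h2 hr4q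
  have hxΩ : x ∈ omegaGL (⇑Q) := hΩ x r8 hx.mem (hr8q.odd (by norm_num)) hx.pow
  have hzΩ : z ∈ omegaGL (⇑Q) := hΩ z r4 hz.mem (hr4q.odd (by norm_num)) hz.pow
  have hfin : finrank F (I9 → F) = 9 := by rw [finrank_V, card_nine]
  obtain ⟨hcm, hcmP⟩ := hx.iso.even_case hQ (lin_ne_one hx.ne) hr8q (by decide) (by rw [hfin]; norm_num)
  refine spr_of_one_center f hf hker (s := (⟨x, hxΩ⟩ : ↥(omegaGL (⇑Q)))) (z := ⟨z, hzΩ⟩)
    (M := (subspaceStabilizer (cm (lin x))).subgroupOf (omegaGL (⇑Q))) ?_ ?_ ?_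
  · intro y hy
    rw [Subgroup.mem_centralizer_singleton_iff] at hy
    rw [Subgroup.mem_subgroupOf]
    exact mem_stab_cm (congrArg Subtype.val hy)
  · intro h
    rw [Subgroup.mem_subgroupOf] at h
    exact (not_c hQ hr4q hz h).1 ⟨hcm, hcmP⟩
  · intro K hxK hK
    obtain ⟨N, hN, hKN⟩ := (eq_top_or_exists_le_coatom K).resolve_left hK
    refine hKN.trans fun y hy => ?_
    rw [Subgroup.mem_subgroupOf]
    have hxN : x ∈ N.map (omegaGL (⇑Q)).subtype := ⟨_, hKN hxK, rfl⟩
    rcases over_a hQ (hGeo _ (isMaximalIn_map hN)) hp ha hF hr8 hx hxN with ⟨W, hW8, -, -, hle⟩ | ⟨h17, -⟩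
    · have hxW := inv_of_mem (hle hxN)
      have hadd := hx.finrank_add
      rw [card_nine] at hadd
      rcases hx.iso.le_or hr8q hcm hxW with h1 | h1
      · have h3 := Submodule.finrank_mono h1
        omega
      · have h3 : cm (lin x) = W := Submodule.eq_of_le_of_finrank_eq h1 (by omega)
        rw [h3]
        exact hle ⟨y, hy, rfl⟩
    · exact absurd h17 hr17

end Cfsg.Agent.H71.Spr
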