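import Cfsg.Agent.H71.Spr.Nine
import Cfsg.Agent.H884.ElFin
import Cfsg.Agent.H957.Bridge
import Cfsg.Agent.S0295
import Cfsg.Agent.S5835
import Mathlib

/-!
# S3938, row `Ω_9(q)`, `q` odd, from S5836 (helper71)
-/

set_option autoImplicit false
set_option linter.unusedSectionVars false

namespace Cfsg.Agent.H71.Spr

open Module QuadraticMap Cfsg Cfsg.Geo Cfsg.Agent.LieClassical Cfsg.Agent.LieClassical.OmegaReindex Cfsg.Agent.H955
open Cfsg.Agent.H278.Cov Cfsg.Agent.H781.Cov9
open scoped MatrixGroups Matrix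

universe u

variable {F : Type u} [Field F] [Fintype F]

/-- the projection of `omegaGL` onto `POmega` -/
theorem exists_proj {ι : Type} [Fintype ι] [DecidableEq ι] (Q : (ι → F) → F) :
    ∃ f : ↥(omegaGL Q) →* POmega F Q, Function.Surjective f ∧ f.ker ≤ Subgroup.center ↥(omegaGL Q) := by
  let e : ↥(Omega F Q) ≃* ↥(omegaGL Q) :=
    (Omega F Q).equivMapOfInjective (isometryGroup F Q).subtype (isometryGroup F Q).subtype_injective
  refine ⟨(QuotientGroup.mk' (Subgroup.center (Omega F Q))).comp e.symm.toMonoidHom,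
    (QuotientGroup.mk'_surjective _).comp e.symm.surjective, fun x hx => ?_⟩
  rw [MonoidHom.mem_ker] at hx
  have h1 : e.symm x ∈ Subgroup.center (Omega F Q) := (QuotientGroup.eq_one_iff _).1 hx
  rw [Subgroup.mem_center_iff] at h1 ⊢
  intro y
  apply e.symm.injective
  rw [map_mul, map_mul]
  exact h1 (e.symm y)

/-- **S3938-OODD9** from the residual class (S5836) -/
theorem spr_o9_of_res (hodd : Odd (Fintype.card F))
    (hres : ∀ H : Subgroup (GL I9 F), IsMaximalIn (omegaGL (quadFormOdd 4 F)) H → InOrthogonalResidualClass H →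
      ResCases H) : H424.Spr.Spr (POmega F (quadFormOdd 4 F)) := by
  have h2 := H390.two_ne_zero_of_odd hodd
  have hgeo : ∀ H : Subgroup (GL I9 F), IsMaximalIn (omegaGL (quadFormOdd 4 F)) H → GeoCases (quadFormOdd 4 F) H := by
    intro H hH
    have h := Cfsg.Agent.S5835.result hodd H hH
    rcases h with h | h | h | h | h | h | h | h
    · exact Or.inl h
    · exact Or.inr (Or.inl h)
    · exact Or.inr (Or.inr (Or.inl h))
    · exact Or.inr (Or.inr (Or.inr (Or.inl h)))
    · exact Or.inr (Or.inr (Or.inr (Or.inr (Or.inl h))))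
    · exact Or.inr (Or.inr (Or.inr (Or.inr (Or.inr (Or.inl h)))))
    · exact Or.inr (Or.inr (Or.inr (Or.inr (Or.inr (Or.inr (Or.inl h))))))
    · exact Or.inr (Or.inr (Or.inr (Or.inr (Or.inr (Or.inr (Or.inr (hres H hH h)))))))
  have hs := Cfsg.Agent.S0295.result hodd 4 (by norm_num)
  have key : (∀ H : Subgroup (GL I9 F), IsMaximalIn (omegaGL (⇑(quadOdd 4 F))) H → GeoCases (⇑(quadOdd 4 F)) H) →
      IsSimpleGroup (POmega F (⇑(quadOdd 4 F))) → H424.Spr.Spr (POmega F (⇑(quadOdd 4 F))) := by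
    intro hG hs
    obtain ⟨f, hf, hker⟩ := exists_proj (F := F) (⇑(quadOdd 4 F))
    have : Finite (POmega F (⇑(quadOdd 4 F))) := Finite.of_surjective f hf
    refine spr_nine (nondeg_iff.2 (quadOdd_nondegenerate h2)) h2 ?_ hG f hf hker
    intro g r hg hr hgr
    exact H957.mem_omegaGL_of_odd (quadOdd 4 F) (quadOdd_nondegenerate h2) (Or.inr (by rw [card_nine]; norm_num))
      hr g hg hgr
  rw [coe_quadOdd] at key
  exact key hgeo hs

end Cfsg.Agent.H71.Spr
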